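import Cfsg.Agent.Lib.Spor.Golay.M24Facts

/-!
Data for the automorphisms of the sign and permutation subgroup: three octads pinning an involution's partners, short
words with trivial value, and the members whose images under the extra map are again monomial.
-/

set_option autoImplicit false

namespace Cfsg.Agent.Fus.Co1Out

/-- Three octads moved only by sixteen members. -/
def octK : List ℕ := [5279, 180636, 8421811]

/-- Code words whose commutators give these octads. -/
def witK : List ℕ := [421910, 5210132, 13811730]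

/-- Words in the first two generators with trivial value. -/
def relOne : List (List ℕ) := [[1, 1],
   [0, 1, 0, 1, 0, 1],
   [0, 0, 0, 0, 0, 1, 0, 0, 0, 0, 0, 1, 0, 0, 0, 0, 0, 1, 0, 0, 0, 0, 0, 1],
   [0, 0, 0, 0, 0, 0, 0, 1, 0, 0, 0, 0, 0, 0, 0, 1, 0, 0, 0, 0, 0, 0, 0, 1, 0, 0, 0, 0, 0, 0, 0, 1, 0, 0, 0, 0, 0, 0, 0, 1, 0, 0, 0, 0, 0, 0, 0, 1]]

/-- Words in the three generators with trivial value. -/
def relTwo : List (List ℕ) := [[1, 1],
   [2, 2, 2, 2, 2],
   [0, 1, 0, 1, 0, 1],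
   [1, 2, 1, 2, 2, 2, 2],
   [0, 2, 0, 2, 0, 2, 0, 2, 0, 2, 0, 2],
   [0, 2, 2, 0, 2, 2, 0, 2, 2, 0, 2, 2, 0, 2, 2],
   [0, 0, 2, 0, 0, 2, 0, 0, 2, 0, 0, 2, 0, 0, 2, 0, 0, 2, 0, 0, 2],
   [0, 0, 1, 2, 2, 2, 0, 0, 1, 2, 2, 2, 0, 0, 1, 2, 2, 2, 0, 0, 1, 2, 2, 2]]

/-- The two remaining possibilities for the second generator. -/
def solOne : List ℕ := [0, 340831]

/-- Sign changes and their images. -/
def sepL : List (ℕ × ℕ × ℕ) := [(5279, 0xbdab49ca307b9ac5a928398a418820, 5279),
   (52005, 0x89ab484af3415ac4a96f3d9c408062, 13303882),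
   (337856, 0xbae957b6289ba44b1cd0524ac18820, 7903248),
   (657763, 0x726b4448af85dac32ad33ae2410c01, 12698124),
   (3375280, 0x75a95434af85e4a5b13321a2718820, 9204992),
   (5405696, 0x2ae4d9d5d07c68ab30c8226e718820, 10748656)]

/-- Permutations and their images. -/
def permL : List (ℕ × ℕ × ℕ) := [(0xb8cc962dc4396d50484aa062d84d0f, 0xb8cc962dc4396d50484aa062d84d0f, 622863),
   (0xaa04150e8c3b40b7da044ce468b8b7, 0xaa04150e8c3b40b7da044ce468b8b7, 8536111)]

/-- A sign change whose image is not one. -/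
def badC : ℕ := 10558

end Cfsg.Agent.Fus.Co1Out
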