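import Cfsg.Agent.Lib.Fus.Co1Centre.Centraliser
import Cfsg.Agent.Lib.Fus.Co1Out.Data

/-!
Signed permutations in the quotient of the lattice group by its centre.
-/

set_option autoImplicit false
set_option maxRecDepth 100000

open Cfsg
open scoped Pointwise

namespace Cfsg.Agent.Fus.Co1Out

open Cfsg.Agent.Spor Cfsg.Agent.Spor.Leech
open Co1Centre (mk)

local notation "SC" => supports (golayCode : Set (GolayPt → ZMod 2))

/-- The image of a signed permutation. -/
def md {σ : Equiv.Perm GolayPt} (hσ : σ ∈ M24) {c : Finset GolayPt} (hc : c ∈ SC) : Spor.Co1 := mk (mono hσ hc)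

theorem symmDiff_univ (c : Finset GolayPt) : symmDiff Finset.univ c = cᶜ := by
  ext i; simp [Finset.mem_symmDiff]

theorem compl_mem {c : Finset GolayPt} (hc : c ∈ SC) : cᶜ ∈ SC := by
  have h := Golay.symmDiff_mem_supports univ_code hc
  rwa [symmDiff_univ] at h

theorem negCo_mono {σ : Equiv.Perm GolayPt} (hσ : σ ∈ M24) {c : Finset GolayPt} (hc : c ∈ SC) :
    negCo * mono hσ hc = mono hσ (compl_mem hc) := by
  rw [negCo, Co1Centre.mono_mul]
  exact Co1Centre.mono_congr _ _ _ _ (one_mul σ) (by rw [one_smul, symmDiff_univ])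

theorem md_eq {σ τ : Equiv.Perm GolayPt} {hσ : σ ∈ M24} {hτ : τ ∈ M24} {c d : Finset GolayPt} {hc : c ∈ SC}
    {hd : d ∈ SC} : md hσ hc = md hτ hd ↔ σ = τ ∧ (c = d ∨ c = dᶜ) := by
  rw [md, md, Co1Centre.mk_eq, negCo_mono hτ hd]
  constructor
  · rintro (h | h)
    · obtain ⟨h1, h2⟩ := mono_inj _ _ _ _ h; exact ⟨h1, Or.inl h2⟩
    · obtain ⟨h1, h2⟩ := mono_inj _ _ _ _ h; exact ⟨h1, Or.inr h2⟩
  · rintro ⟨h1, h2 | h2⟩
    · exact Or.inl (Co1Centre.mono_congr _ _ _ _ h1 h2)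
    · exact Or.inr (Co1Centre.mono_congr _ _ _ _ h1 h2)

theorem md_mul {σ τ : Equiv.Perm GolayPt} (hσ : σ ∈ M24) (hτ : τ ∈ M24) {c d : Finset GolayPt} (hc : c ∈ SC)
    (hd : d ∈ SC) :
    md hσ hc * md hτ hd = md (mul_mem hσ hτ) (Golay.symmDiff_mem_supports hc (smul_supports hσ hd)) := by
  rw [md, md, md, ← map_mul, Co1Centre.mono_mul]

theorem mono_one_empty : mono (one_mem M24) empty_code = 1 :=
  ext_axis fun i => by rw [mono_axis]; simp

theorem md_one : md (one_mem M24) empty_code = 1 := by rw [md, mono_one_empty, map_one]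

theorem md_eq_one {σ : Equiv.Perm GolayPt} {hσ : σ ∈ M24} {c : Finset GolayPt} {hc : c ∈ SC} :
    md hσ hc = 1 ↔ σ = 1 ∧ (c = ∅ ∨ c = Finset.univ) := by
  rw [← md_one, md_eq, Finset.compl_empty]

/-- The image of the stabiliser of the standard cross. -/
def N1 : Subgroup Spor.Co1 := crossStab.map mk

theorem md_mem {σ : Equiv.Perm GolayPt} (hσ : σ ∈ M24) {c : Finset GolayPt} (hc : c ∈ SC) : md hσ hc ∈ N1 :=
  ⟨_, mono_mem hσ hc, rfl⟩

theorem exists_md {x : Spor.Co1} (hx : x ∈ N1) :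
    ∃ (σ : Equiv.Perm GolayPt) (hσ : σ ∈ M24) (c : Finset GolayPt) (hc : c ∈ SC), x = md hσ hc := by
  obtain ⟨g, hg, rfl⟩ := hx
  obtain ⟨σ, hσ, c, hc, rfl⟩ := exists_mono hg
  exact ⟨σ, hσ, c, hc, rfl⟩

/-- A permutation as a member. -/
def pm {σ : Equiv.Perm GolayPt} (hσ : σ ∈ M24) : Spor.Co1 := md hσ empty_code

/-- A sign change as a member. -/
def dg {c : Finset GolayPt} (hc : c ∈ SC) : Spor.Co1 := md (one_mem M24) hc

theorem md_split {σ : Equiv.Perm GolayPt} (hσ : σ ∈ M24) {c : Finset GolayPt} (hc : c ∈ SC) :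
    md hσ hc = dg hc * pm hσ := by
  rw [dg, pm, md_mul, md_eq]
  exact ⟨(one_mul σ).symm, Or.inl (by rw [one_smul, ← Finset.bot_eq_empty, symmDiff_bot])⟩

theorem pm_mul {σ τ : Equiv.Perm GolayPt} (hσ : σ ∈ M24) (hτ : τ ∈ M24) : pm hσ * pm hτ = pm (mul_mem hσ hτ) := by
  rw [pm, pm, pm, md_mul, md_eq]
  exact ⟨rfl, Or.inl (by rw [Finset.smul_finset_empty, symmDiff_self]; rfl)⟩

theorem dg_mul {c d : Finset GolayPt} (hc : c ∈ SC) (hd : d ∈ SC) :
    dg hc * dg hd = dg (Golay.symmDiff_mem_supports hc hd) := by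
  rw [dg, dg, dg, md_mul, md_eq]
  exact ⟨one_mul 1, Or.inl (by rw [one_smul])⟩

theorem conj_dg {σ : Equiv.Perm GolayPt} (hσ : σ ∈ M24) {d c : Finset GolayPt} (hd : d ∈ SC) (hc : c ∈ SC) :
    md hσ hd * dg hc = dg (smul_supports hσ hc) * md hσ hd := by
  rw [dg, dg, md_mul, md_mul, md_eq]
  exact ⟨by rw [mul_one, one_mul], Or.inl (by rw [one_smul, symmDiff_comm])⟩

theorem dg_sq {c : Finset GolayPt} (hc : c ∈ SC) : dg hc * dg hc = 1 := by
  rw [dg_mul, dg, md_eq_one]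
  exact ⟨rfl, Or.inl (by rw [symmDiff_self]; rfl)⟩

/-- The sign changes. -/
def E1 : Subgroup Spor.Co1 where
  carrier := {x | ∃ (c : Finset GolayPt) (hc : c ∈ SC), x = dg hc}
  one_mem' := ⟨∅, empty_code, md_one.symm⟩
  mul_mem' := by rintro _ _ ⟨c, hc, rfl⟩ ⟨d, hd, rfl⟩; exact ⟨_, _, dg_mul hc hd⟩
  inv_mem' := by rintro _ ⟨c, hc, rfl⟩; exact ⟨c, hc, inv_eq_of_mul_eq_one_right (dg_sq hc)⟩

theorem mem_E1 {x : Spor.Co1} : x ∈ E1 ↔ ∃ (c : Finset GolayPt) (hc : c ∈ SC), x = dg hc := Iff.rfl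

theorem E1_le : E1 ≤ N1 := by rintro _ ⟨c, hc, rfl⟩; exact md_mem _ _

theorem dg_mem {c : Finset GolayPt} (hc : c ∈ SC) : dg hc ∈ E1 := ⟨c, hc, rfl⟩

theorem conj_E1 {g e : Spor.Co1} (hg : g ∈ N1) (he : e ∈ E1) : g * e * g⁻¹ ∈ E1 := by
  obtain ⟨σ, hσ, d, hd, rfl⟩ := exists_md hg
  obtain ⟨c, hc, rfl⟩ := he
  exact ⟨_, _, by rw [conj_dg hσ hd hc, mul_inv_cancel_right]⟩

/-- The permutation of a member of the cross stabiliser. -/
noncomputable def perm (g : crossStab) : Equiv.Perm GolayPt := (exists_mono g.2).choose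

theorem perm_mem (g : crossStab) : perm g ∈ M24 := (exists_mono g.2).choose_spec.1

theorem perm_eq {g : crossStab} {σ : Equiv.Perm GolayPt} {hσ : σ ∈ M24} {c : Finset GolayPt} {hc : c ∈ SC}
    (h : (g : Co0) = mono hσ hc) : perm g = σ := by
  obtain ⟨hτ, d, hd, e⟩ := (exists_mono g.2).choose_spec
  exact (mono_inj hτ hσ hd hc (e.symm.trans h)).1

/-- The map to the code group. -/
noncomputable def permHom : crossStab →* Equiv.Perm GolayPt where
  toFun := perm
  map_one' := perm_eq (σ := 1) (hσ := one_mem M24) (hc := empty_code) mono_one_empty.symm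
  map_mul' g h := by
    obtain ⟨σ, hσ, c, hc, eg⟩ := exists_mono g.2
    obtain ⟨τ, hτ, d, hd, eh⟩ := exists_mono h.2
    rw [perm_eq eg, perm_eq eh]
    exact perm_eq (hσ := mul_mem hσ hτ) (hc := Golay.symmDiff_mem_supports hc (smul_supports hσ hd))
      (by rw [Subgroup.coe_mul, eg, eh, Co1Centre.mono_mul])

theorem permHom_mono {σ : Equiv.Perm GolayPt} (hσ : σ ∈ M24) {c : Finset GolayPt} (hc : c ∈ SC) :
    permHom ⟨mono hσ hc, mono_mem hσ hc⟩ = σ := perm_eq (hσ := hσ) (hc := hc) rfl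

theorem ker_permHom {g : crossStab} (h : permHom g = 1) :
    ∃ (c : Finset GolayPt) (hc : c ∈ SC), (g : Co0) = mono (one_mem M24) hc := by
  obtain ⟨σ, hσ, c, hc, eg⟩ := exists_mono g.2
  obtain rfl : σ = 1 := (perm_eq eg).symm.trans h
  exact ⟨c, hc, eg⟩

/-- Normalised mask: the last bit clear. -/
def nm (m : ℕ) : ℕ := if m.testBit 23 then 16777215 ^^^ m else m

theorem pts_nm (m : ℕ) : Golay.pts (nm m) = Golay.pts m ∨ Golay.pts (nm m) = (Golay.pts m)ᶜ := by
  unfold nm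
  split_ifs
  · exact Or.inr (Golay.pts_compl m).symm
  · exact Or.inl rfl

theorem univ_isCode : Golay.isCode 16777215 = true := by decide +kernel

theorem isCode_nm {m : ℕ} (h : Golay.isCode m = true) : Golay.isCode (nm m) = true := by
  unfold nm
  split_ifs
  · exact Golay.isCode_xor univ_isCode h
  · exact h

theorem code_lt {m : ℕ} (h : Golay.isCode m = true) : m < 2 ^ 24 := Golay.codeList_lt (Golay.mem_codeList.2 h)

theorem code_mem {m : ℕ} (h : Golay.isCode m = true) : Golay.pts m ∈ SC :=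
  Golay.mem_supports.2 ⟨m, Golay.mem_codeList.2 h, rfl⟩

theorem nm_eq_of {a b : ℕ} (ha : Golay.isCode a = true) (hb : Golay.isCode b = true)
    (h : Golay.pts a = Golay.pts b ∨ Golay.pts a = (Golay.pts b)ᶜ) : nm a = nm b := by
  have hb' := code_lt hb
  rcases h with h | h
  · rw [Golay.pts_injOn (code_lt ha) hb' h]
  · rw [Golay.pts_compl] at h
    have h2 : a = 16777215 ^^^ b :=
      Golay.pts_injOn (code_lt ha) (Nat.xor_lt_two_pow (by norm_num) hb') h
    subst h2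
    unfold nm
    rw [Nat.testBit_xor, show Nat.testBit 16777215 23 = true by decide]
    cases b.testBit 23 <;> simp [← Nat.xor_assoc]

theorem img_code {P : ℕ} (hP : Golay.inM24 P = true) {m : ℕ} (hm : Golay.isCode m = true) :
    Golay.isCode (Golay.imgMask (Golay.get P) m) = true := by
  have hv : Golay.valid P = true := by
    rw [Golay.inM24, Bool.and_eq_true] at hP; exact hP.1
  have h := smul_supports (Golay.permOf_mem_M24 hP) (code_mem hm)
  rw [Golay.permOf_smul_pts hv] at h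
  obtain ⟨a, ha, e⟩ := Golay.mem_supports.1 h
  rw [Golay.pts_injOn (Co1Centre.imgMask_lt hv m) (Golay.codeList_lt ha) e]
  exact Golay.mem_codeList.1 ha

end Cfsg.Agent.Fus.Co1Out
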