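import Cfsg.Agent.Lib.Fus.Co1Out.Stable
import Cfsg.Agent.S2064

/-!
An automorphism stabilising the sign changes is, up to a conjugation, trivial on their normaliser.
-/

set_option autoImplicit false
set_option maxRecDepth 100000

open Cfsg
open scoped Pointwise

namespace Cfsg.Agent.Fus.Co1Out

open Cfsg.Agent.Spor Cfsg.Agent.Spor.Leech
open Co1Centre (mk)

local notation "SC" => supports (golayCode : Set (GolayPt → ZMod 2))

theorem dg_congr {c d : Finset GolayPt} {hc : c ∈ SC} {hd : d ∈ SC} (h : c = d) : dg hc = dg hd := by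
  subst h; rfl

theorem md_congr {σ τ : Equiv.Perm GolayPt} {hσ : σ ∈ M24} {hτ : τ ∈ M24} {c d : Finset GolayPt} {hc : c ∈ SC}
    {hd : d ∈ SC} (h1 : σ = τ) (h2 : c = d) : md hσ hc = md hτ hd := by
  subst h1; subst h2; rfl

theorem pm_congr {σ τ : Equiv.Perm GolayPt} {hσ : σ ∈ M24} {hτ : τ ∈ M24} (h : σ = τ) : pm hσ = pm hτ := by
  subst h; rfl

theorem map_mem_N1 {β : MulAut Spor.Co1} (hβ : ∀ e ∈ E1, β e ∈ E1) {x : Spor.Co1} (hx : x ∈ N1) : β x ∈ N1 := by
  refine normalizer_E1 fun e he => ?_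
  obtain ⟨⟨e', he'⟩, h⟩ := (Finite.injective_iff_surjective (f := fun z : E1 => (⟨β z, hβ z z.2⟩ : E1))).1
    (fun a b h => Subtype.ext (β.injective (congrArg Subtype.val h))) ⟨e, he⟩
  obtain rfl : β e' = e := congrArg Subtype.val h
  rw [← map_inv, ← map_mul, ← map_mul]
  exact hβ _ (conj_E1 hx he')

theorem exists_fix_perm {β : MulAut Spor.Co1} (hβ : ∀ e ∈ E1, β e ∈ E1) :
    ∃ g ∈ N1, (∀ e ∈ E1, conjBy g β e ∈ E1) ∧
      ∀ (σ : Equiv.Perm GolayPt) (hσ : σ ∈ M24),
        ∃ (d : Finset GolayPt) (hd : d ∈ SC), conjBy g β (pm hσ) = md hσ hd := by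
  classical
  have h1 : ∀ s : M24, ∃ t : M24, ∃ (d : Finset GolayPt) (hd : d ∈ SC), β (pm s.2) = md t.2 hd := by
    intro s
    obtain ⟨τ, hτ, d, hd, e⟩ := exists_md (map_mem_N1 hβ (md_mem s.2 empty_code))
    exact ⟨⟨τ, hτ⟩, d, hd, e⟩
  choose ψ d hd hψ using h1
  let Ψ : M24 →* M24 := MonoidHom.mk' ψ fun s t => by
    have h := hψ (s * t)
    have e : pm (s * t).2 = pm s.2 * pm t.2 := (pm_mul s.2 t.2).symm
    rw [e, map_mul, hψ s, hψ t, md_mul, md_eq] at h
    exact Subtype.ext h.1.symm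
  have hinj : Function.Injective Ψ := by
    rw [injective_iff_map_eq_one]
    intro s hs
    have h := hψ s
    have hs' : ψ s = 1 := hs
    have e : md (ψ s).2 (hd s) = dg (hd s) := md_congr (congrArg Subtype.val hs') rfl
    rw [e] at h
    obtain ⟨⟨e', he'⟩, h'⟩ := (Finite.injective_iff_surjective (f := fun z : E1 => (⟨β z, hβ z z.2⟩ : E1))).1
      (fun a b h => Subtype.ext (β.injective (congrArg Subtype.val h))) ⟨_, dg_mem (hd s)⟩
    obtain ⟨c, hc, rfl⟩ := he'
    have h2 := β.injective (h.trans (congrArg Subtype.val h').symm)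
    exact Subtype.ext (md_eq.1 h2).1
  let e : MulAut M24 := MulEquiv.ofBijective Ψ ⟨hinj, Finite.surjective_of_injective hinj⟩
  obtain ⟨hsub, -⟩ := Nat.card_eq_one_iff_unique.1 Cfsg.Agent.S2064.result
  have htop : Cfsg.Inn ↥Cfsg.M24 = ⊤ := QuotientGroup.subsingleton_iff.1 hsub
  obtain ⟨h, hh⟩ : e ∈ Cfsg.Inn ↥Cfsg.M24 := htop ▸ Subgroup.mem_top _
  refine ⟨(pm h.2)⁻¹, N1.inv_mem (md_mem _ _), fun x hx => ?_, fun σ hσ => ?_⟩
  · rw [conjBy_apply]
    exact conj_E1 (N1.inv_mem (md_mem _ _)) (hβ x hx)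
  · have hval : (ψ ⟨σ, hσ⟩ : Equiv.Perm GolayPt) = h * σ * (h : Equiv.Perm GolayPt)⁻¹ :=
      (congrArg (fun f : MulAut M24 => ((f ⟨σ, hσ⟩ : M24) : Equiv.Perm GolayPt)) hh).symm
    refine ⟨(h : Equiv.Perm GolayPt)⁻¹ • d ⟨σ, hσ⟩, smul_supports (inv_mem h.2) (hd _), ?_⟩
    rw [conjBy_apply, inv_inv, hψ ⟨σ, hσ⟩, mul_assoc, inv_mul_eq_iff_eq_mul, pm, md_mul, md_mul, md_eq]
    refine ⟨by rw [hval, inv_mul_cancel_right], Or.inl ?_⟩
    rw [smul_inv_smul, Finset.smul_finset_empty, ← Finset.bot_eq_empty, bot_symmDiff, symmDiff_bot]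

/-- Generators of the octad stabiliser. -/
def octGens : List ℕ := Co1Centre.octI ++ Golay.Census.tr4SG

theorem oct_only : ∀ m ∈ Golay.codeList, (∀ P ∈ octGens, fixM P m = true) → nm m = 0 ∨ nm m = nm 5279 := by
  decide +kernel

theorem oct_gens_ok : ∀ P ∈ octGens, Golay.inM24 P = true ∧ Golay.imgMask (Golay.get P) 5279 = 5279 := by
  decide +kernel

theorem basis_oct : ∀ b ∈ Golay.basis, Golay.isCode b = true ∧ Golay.pop b = 8 := by decide +kernel

theorem valid_of {P : ℕ} (h : Golay.inM24 P = true) : Golay.valid P = true := by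
  rw [Golay.inM24, Bool.and_eq_true] at h; exact h.1

section

variable {γ : MulAut Spor.Co1} (hE : ∀ e ∈ E1, γ e ∈ E1)
  (hP : ∀ (σ : Equiv.Perm GolayPt) (hσ : σ ∈ M24), ∃ (d : Finset GolayPt) (hd : d ∈ SC), γ (pm hσ) = md hσ hd)

include hP in
theorem equivariant {σ : Equiv.Perm GolayPt} (hσ : σ ∈ M24) {c d : Finset GolayPt} {hc : c ∈ SC} {hd : d ∈ SC}
    (h : γ (dg hc) = dg hd) : γ (dg (smul_supports hσ hc)) = dg (smul_supports hσ hd) := by
  obtain ⟨e, he, hγ⟩ := hP σ hσ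
  have h1 : dg (smul_supports hσ hc) = pm hσ * dg hc * (pm hσ)⁻¹ := by
    rw [pm, conj_dg hσ empty_code hc, mul_inv_cancel_right]
  rw [h1, map_mul, map_mul, map_inv, hγ, h, conj_dg hσ he hd, mul_inv_cancel_right]

include hE hP in
theorem fix_Om : γ (dg Co1Centre.om_octad.1) = dg Co1Centre.om_octad.1 := by
  obtain ⟨d, hd, e⟩ := hE _ (dg_mem Co1Centre.om_octad.1)
  obtain ⟨m, hm, rfl⟩ := Golay.mem_supports.1 hd
  have hmc := Golay.mem_codeList.1 hm
  have hfix : ∀ P ∈ octGens, fixM P m = true := by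
    intro P hPm
    obtain ⟨hin, ho⟩ := oct_gens_ok P hPm
    have hs := Golay.permOf_mem_M24 hin
    have hv := valid_of hin
    have h1 := equivariant hP hs e
    have h2 : dg (smul_supports hs Co1Centre.om_octad.1) = dg Co1Centre.om_octad.1 :=
      dg_congr (by rw [Golay.permOf_smul_pts hv, ho])
    rw [h2, e] at h1
    have h3 := (md_eq.1 h1.symm).2
    rw [Golay.permOf_smul_pts hv] at h3
    rw [fixM, beq_iff_eq]
    exact nm_eq_of (img_code hin hmc) hmc h3
  rcases oct_only m hm hfix with h | h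
  · have h1 : dg hd = 1 := by
      refine md_eq_one.2 ⟨rfl, ?_⟩
      rcases pts_nm_eq (a := m) (b := 0) h with h | h
      · left; rw [h]; ext p; simp [Golay.mem_pts]
      · right; rw [h, show Golay.pts 0 = ∅ from by ext p; simp [Golay.mem_pts], Finset.compl_empty]
    rw [h1] at e
    have h2 := γ.injective (e.trans (map_one γ).symm)
    rcases (md_eq_one.1 h2).2 with h3 | h3 <;> have h4 := congrArg Finset.card h3 <;>
      rw [Co1Centre.card_om] at h4
    · simp at h4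
    · rw [Finset.card_univ, Golay.card_golayPt] at h4; omega
  · rw [e]
    exact md_eq.2 ⟨rfl, pts_nm_eq h⟩

include hE hP in
theorem fix_E {e : Spor.Co1} (he : e ∈ E1) : γ e = e := by
  have hoct : ∀ b ∈ Golay.basis, ∀ h : Golay.pts b ∈ SC, γ (dg h) = dg h := by
    intro b hb h
    obtain ⟨σ, hσ, eo⟩ := Golay.exists_smul_octA (o := Golay.pts b) ⟨h, by rw [Golay.card_pts, (basis_oct b hb).2]⟩
    have h1 := equivariant hP hσ (fix_Om hE hP)
    have h2 : dg (smul_supports hσ Co1Centre.om_octad.1) = dg h := dg_congr eo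
    rwa [h2] at h1
  have hpts0 : Golay.pts 0 = ∅ := by ext p; simp [Golay.mem_pts]
  have haux : ∀ (k : ℕ) (L : List ℕ), (∀ b ∈ L, b ∈ Golay.basis) → ∀ (i : ℕ),
      ∃ h : Golay.pts (Golay.encAux k i L) ∈ SC, γ (dg h) = dg h := by
    intro k L
    induction L with
    | nil =>
      intro _ i
      refine ⟨by rw [Golay.encAux, hpts0]; exact empty_code, ?_⟩
      rw [show ∀ h : Golay.pts (Golay.encAux k i []) ∈ SC, dg h = 1 from
        fun h => md_eq_one.2 ⟨rfl, Or.inl (by rw [Golay.encAux, hpts0])⟩, map_one]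
    | cons b L ih =>
      intro hL i
      obtain ⟨h2, e2⟩ := ih (fun a ha => hL a (List.mem_cons_of_mem _ ha)) (i + 1)
      have hb := hL b (List.mem_cons_self ..)
      have h1 : Golay.pts (if k.testBit i then b else 0) ∈ SC := by
        split_ifs
        · exact code_mem (basis_oct b hb).1
        · rw [hpts0]; exact empty_code
      have e1 : γ (dg h1) = dg h1 := by
        by_cases hk : k.testBit i = true
        · have he : Golay.pts (if k.testBit i then b else 0) = Golay.pts b := by rw [if_pos hk]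
          rw [dg_congr (hd := code_mem (basis_oct b hb).1) he, hoct b hb]
        · rw [show dg h1 = 1 from md_eq_one.2 ⟨rfl, Or.inl (by rw [if_neg hk, hpts0])⟩, map_one]
      refine ⟨?_, ?_⟩
      · rw [Golay.encAux, ← Golay.pts_symmDiff]; exact Golay.symmDiff_mem_supports h1 h2
      · have hsplit : ∀ h : Golay.pts (Golay.encAux k i (b :: L)) ∈ SC, dg h = dg h1 * dg h2 := fun h => by
          rw [dg_mul]; exact dg_congr (by rw [Golay.encAux, ← Golay.pts_symmDiff])
        rw [hsplit, map_mul, e1, e2]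
  obtain ⟨c, hc, rfl⟩ := he
  obtain ⟨m, hm, rfl⟩ := Golay.mem_supports.1 hc
  have hmc := Golay.mem_codeList.1 hm
  rw [Golay.isCode, beq_iff_eq] at hmc
  obtain ⟨h, e⟩ := haux (m % 4096) Golay.basis (fun b hb => hb) 0
  have hx : dg hc = dg h := dg_congr (congrArg Golay.pts hmc.symm)
  rw [hx, e]

end

/-- The three generators. -/
def T3 (i : ℕ) : ℕ := Golay.tab 120 Golay.table i

theorem T3_ok : ∀ i < 3, Golay.inM24 (T3 i) = true := by decide +kernel

theorem T0_mem : Golay.permOf (T3 0) ∈ M24 := Golay.permOf_mem_M24 (T3_ok 0 (by norm_num))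

theorem no_fixed : ∀ m ∈ Golay.codeList, fixM (T3 0) m = true → nm m = 0 := by decide +kernel

theorem exists_gauge {γ : MulAut Spor.Co1} (hfix : ∀ e ∈ E1, γ e = e)
    (hP : ∀ (σ : Equiv.Perm GolayPt) (hσ : σ ∈ M24), ∃ (d : Finset GolayPt) (hd : d ∈ SC), γ (pm hσ) = md hσ hd) :
    ∃ x ∈ E1, (∀ e ∈ E1, conjBy x γ e = e) ∧ conjBy x γ (pm T0_mem) = pm T0_mem ∧
      ∀ (σ : Equiv.Perm GolayPt) (hσ : σ ∈ M24), ∃ (d : Finset GolayPt) (hd : d ∈ SC), conjBy x γ (pm hσ) = md hσ hd := by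
  obtain ⟨d0, hd0, e0⟩ := hP _ T0_mem
  let F : E1 →* E1 :=
    MonoidHom.mk' (fun x => ⟨(x : Spor.Co1) * (pm T0_mem * x * (pm T0_mem)⁻¹),
      E1.mul_mem x.2 (conj_E1 (md_mem _ _) x.2)⟩) fun a b => Subtype.ext (by
      obtain ⟨c, hc, ea⟩ := conj_E1 (md_mem T0_mem empty_code) a.2
      obtain ⟨d, hd, eb⟩ := b.2
      show (a : Spor.Co1) * b * (pm T0_mem * ((a : Spor.Co1) * b) * (pm T0_mem)⁻¹) =
        a * (pm T0_mem * a * (pm T0_mem)⁻¹) * (b * (pm T0_mem * b * (pm T0_mem)⁻¹))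
      have hc' : (b : Spor.Co1) * (pm T0_mem * a * (pm T0_mem)⁻¹) = (pm T0_mem * a * (pm T0_mem)⁻¹) * b := by
        rw [show pm T0_mem * (a : Spor.Co1) * (pm T0_mem)⁻¹ = dg hc from ea, eb, dg_mul, dg_mul]
        exact md_eq.2 ⟨rfl, Or.inl (symmDiff_comm _ _)⟩
      calc (a : Spor.Co1) * b * (pm T0_mem * ((a : Spor.Co1) * b) * (pm T0_mem)⁻¹)
          = (a : Spor.Co1) * ((b : Spor.Co1) * (pm T0_mem * a * (pm T0_mem)⁻¹)) * (pm T0_mem * b * (pm T0_mem)⁻¹) := by group
        _ = _ := by rw [hc']; group)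
  have hinj : Function.Injective F := by
    rw [injective_iff_map_eq_one]
    rintro ⟨x, c, hc, rfl⟩ h
    have h' : dg hc * (pm T0_mem * dg hc * (pm T0_mem)⁻¹) = 1 := congrArg Subtype.val h
    rw [pm, conj_dg T0_mem empty_code hc, mul_inv_cancel_right] at h'
    have h3 : dg hc = dg (smul_supports T0_mem hc) := by
      rw [eq_comm, ← inv_eq_of_mul_eq_one_right h', inv_eq_of_mul_eq_one_right (dg_sq hc)]
    obtain ⟨m, hm, rfl⟩ := Golay.mem_supports.1 hc
    have hmc := Golay.mem_codeList.1 hm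
    have hT := T3_ok 0 (by norm_num)
    have h4 := (md_eq.1 h3.symm).2
    rw [Golay.permOf_smul_pts (valid_of hT)] at h4
    have h5 := no_fixed m hm (by rw [fixM, beq_iff_eq]; exact nm_eq_of (img_code hT hmc) hmc h4)
    refine Subtype.ext (md_eq_one.2 ⟨rfl, ?_⟩)
    rcases pts_nm_eq (a := m) (b := 0) h5 with h | h
    · left; rw [h]; ext p; simp [Golay.mem_pts]
    · right; rw [h, show Golay.pts 0 = ∅ from by ext p; simp [Golay.mem_pts], Finset.compl_empty]
  obtain ⟨⟨x, hx⟩, ex⟩ := Finite.surjective_of_injective hinj ⟨dg hd0, dg_mem hd0⟩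
  have ex' : x * (pm T0_mem * x * (pm T0_mem)⁻¹) = dg hd0 := congrArg Subtype.val ex
  refine ⟨x, hx, fun e he => ?_, ?_, fun σ hσ => ?_⟩
  · rw [conjBy_apply, hfix e he]
    obtain ⟨c, hc, rfl⟩ := hx
    obtain ⟨d, hd, rfl⟩ := he
    rw [mul_inv_eq_iff_eq_mul, dg_mul, dg_mul]
    exact md_eq.2 ⟨rfl, Or.inl (symmDiff_comm _ _)⟩
  · obtain ⟨c, hc, rfl⟩ := hx
    rw [conjBy_apply, e0, md_split T0_mem hd0, ← ex', inv_eq_of_mul_eq_one_right (dg_sq hc)]
    calc dg hc * (dg hc * (pm T0_mem * dg hc * (pm T0_mem)⁻¹) * pm T0_mem) * dg hc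
        = (dg hc * dg hc) * (pm T0_mem * (dg hc * dg hc)) := by group
      _ = pm T0_mem := by rw [dg_sq, one_mul, mul_one]
  · obtain ⟨d, hd, e⟩ := hP σ hσ
    obtain ⟨c, hc, rfl⟩ := hx
    have h1 : dg hc * md hσ hd * (dg hc)⁻¹ = dg hc * (md hσ hd * dg hc) := by
      rw [inv_eq_of_mul_eq_one_right (dg_sq hc), mul_assoc]
    refine ⟨symmDiff c (symmDiff (σ • c) d), Golay.symmDiff_mem_supports hc
      (Golay.symmDiff_mem_supports (smul_supports hσ hc) hd), ?_⟩
    rw [conjBy_apply, e, h1, conj_dg, dg, dg, md_mul, md_mul, md_eq]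
    exact ⟨by rw [one_mul, one_mul], Or.inl (by rw [one_smul, one_smul])⟩

/-- The value of a word: sign change and permutation. -/
def wp (e1 e2 : ℕ) : List ℕ → ℕ × ℕ
  | [] => (0, Golay.idP)
  | x :: w => (nm ([0, e1, e2].getD x 0 ^^^ Golay.imgMask (Golay.get (T3 x)) (wp e1 e2 w).1),
      Golay.comp (T3 x) (wp e1 e2 w).2)

/-- All words have trivial sign part. -/
def passes (rel : List (List ℕ)) (e1 e2 : ℕ) : Bool := rel.all fun w => nm (wp e1 e2 w).1 == 0

/-- The normalised code words. -/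
def EL : List ℕ := Golay.codeList.filter fun m => !m.testBit 23

theorem rel_ok : (relOne.all fun w => (w.all fun x => decide (x < 2)) && ((wp 0 0 w).2 == Golay.idP)) = true ∧
    (relTwo.all fun w => (w.all fun x => decide (x < 3)) && ((wp 0 0 w).2 == Golay.idP)) = true := by
  decide +kernel

theorem stage_one : (EL.all fun e1 => !passes relOne e1 0 || solOne.any (fun s => s == e1)) = true := by
  decide +kernel

theorem stage_two : (solOne.all fun e1 => EL.all fun e2 => !passes relTwo e1 e2 || (e1 == 0 && e2 == 0)) = true := by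
  decide +kernel

theorem nm_mem {m : ℕ} (hm : Golay.isCode m = true) : nm m ∈ EL := by
  refine List.mem_filter.2 ⟨Golay.mem_codeList.2 (isCode_nm hm), ?_⟩
  rw [Bool.not_eq_true']
  unfold nm
  cases h : m.testBit 23
  · simpa using h
  · simp only [if_true, Nat.testBit_xor, h, show Nat.testBit 16777215 23 = true by decide]; rfl

theorem wp_snd (e1 e2 : ℕ) : ∀ w, (wp e1 e2 w).2 = (wp 0 0 w).2
  | [] => rfl
  | x :: w => by simp only [wp, wp_snd e1 e2 w]

theorem wp_one_indep (e1 e2 : ℕ) : ∀ w : List ℕ, (∀ x ∈ w, x < 2) → (wp e1 e2 w).1 = (wp e1 0 w).1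
  | [], _ => rfl
  | x :: w, h => by
    have hx := h x (List.mem_cons_self ..)
    simp only [wp, wp_one_indep e1 e2 w fun y hy => h y (List.mem_cons_of_mem _ hy)]
    interval_cases x <;> rfl

theorem pm_one (δ : MulAut Spor.Co1) {σ : Equiv.Perm GolayPt} {hσ : σ ∈ M24} {c : Finset GolayPt} {hc : c ∈ SC}
    (h1 : σ = 1) (h2 : c = ∅) : δ (pm hσ) = md hσ hc := by
  subst h1; subst h2
  exact (congrArg δ md_one).trans ((map_one δ).trans md_one.symm)

theorem nm_zero : nm 0 = 0 := by decide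

theorem pm_step (δ : MulAut Spor.Co1) {σ τ ρ : Equiv.Perm GolayPt} {hσ : σ ∈ M24} {hτ : τ ∈ M24} {hρ : ρ ∈ M24}
    {a b c : Finset GolayPt} {ha : a ∈ SC} {hb : b ∈ SC} {hc : c ∈ SC} (h1 : δ (pm hσ) = md hσ ha)
    (h2 : δ (pm hτ) = md hτ hb) (e : ρ = σ * τ) (ec : symmDiff a (σ • b) = c ∨ symmDiff a (σ • b) = cᶜ) :
    δ (pm hρ) = md hρ hc := by
  rw [show pm hρ = pm hσ * pm hτ from (pm_congr e).trans (pm_mul hσ hτ).symm, map_mul, h1, h2, md_mul, md_eq]
  exact ⟨e.symm, ec⟩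

section

attribute [local irreducible] Golay.idP Golay.pts T3 Golay.comp Golay.imgMask Golay.permOf Golay.isCode Golay.inM24 Golay.valid nm

set_option maxHeartbeats 1000000 in
theorem fix_gens {δ : MulAut Spor.Co1} (hfix : ∀ e ∈ E1, δ e = e) (h0 : δ (pm T0_mem) = pm T0_mem)
    (hP : ∀ (σ : Equiv.Perm GolayPt) (hσ : σ ∈ M24), ∃ (d : Finset GolayPt) (hd : d ∈ SC), δ (pm hσ) = md hσ hd)
    {i : ℕ} (hi : i < 3) (h : Golay.permOf (T3 i) ∈ M24) : δ (pm h) = pm h := by
  have hm : ∀ i < 3, ∃ m ∈ EL, ∃ hc : Golay.pts m ∈ SC, ∀ hi' : Golay.permOf (T3 i) ∈ M24, δ (pm hi') = md hi' hc := by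
    intro i hi
    obtain ⟨d, hd, e⟩ := hP _ (Golay.permOf_mem_M24 (T3_ok i hi))
    obtain ⟨m, hm, rfl⟩ := Golay.mem_supports.1 hd
    refine ⟨nm m, nm_mem (Golay.mem_codeList.1 hm), code_mem (isCode_nm (Golay.mem_codeList.1 hm)), fun hi' => e.trans ?_⟩
    refine md_eq.2 ⟨rfl, ?_⟩
    rcases pts_nm m with hh | hh <;> rw [hh]
    · exact Or.inl rfl
    · exact Or.inr (compl_compl _).symm
  obtain ⟨e1, he1, hc1, d1⟩ := hm 1 (by norm_num)
  obtain ⟨e2, he2, hc2, d2⟩ := hm 2 (by norm_num)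
  have hlet : ∀ x < 3, ∃ hc : Golay.pts ([0, e1, e2].getD x 0) ∈ SC, ∀ hx : Golay.permOf (T3 x) ∈ M24,
      δ (pm hx) = md hx hc := by
    intro x hx
    interval_cases x
    · refine ⟨by rw [show ([0, e1, e2].getD 0 0) = 0 from rfl, show Golay.pts 0 = ∅ from by ext p; simp [Golay.mem_pts]]; exact empty_code,
        fun _ => h0.trans (md_congr rfl ?_)⟩
      ext p; simp [Golay.mem_pts]
    · exact ⟨hc1, d1⟩
    · exact ⟨hc2, d2⟩
  have key : ∀ w : List ℕ, (∀ x ∈ w, x < 3) → ∃ (hw : Golay.inM24 (wp e1 e2 w).2 = true)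
      (ha : Golay.isCode (wp e1 e2 w).1 = true) (hp : Golay.permOf (wp e1 e2 w).2 ∈ M24),
      Golay.valid (wp e1 e2 w).2 = true ∧ δ (pm hp) = md hp (code_mem ha) := by
    intro w
    induction w with
    | nil =>
      intro _
      have h1 : Golay.inM24 Golay.idP = true := by decide +kernel
      have h2 : Golay.permOf Golay.idP ∈ M24 := by rw [Golay.permOf_idP]; exact one_mem _
      simp only [wp]
      refine ⟨h1, (by decide +kernel : Golay.isCode 0 = true), h2, Golay.valid_idP, ?_⟩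
      exact pm_one δ Golay.permOf_idP (by ext p; simp [Golay.mem_pts])
    | cons x w ih =>
      intro hw
      obtain ⟨hin, ha, hp, hv, e⟩ := ih fun y hy => hw y (List.mem_cons_of_mem _ hy)
      have hx := hw x (List.mem_cons_self ..)
      obtain ⟨hc, hd⟩ := hlet x hx
      have hT := T3_ok x hx
      have hTm := Golay.permOf_mem_M24 hT
      have hec : Golay.isCode ([0, e1, e2].getD x 0) = true := by
        interval_cases x
        · exact (by decide +kernel : Golay.isCode 0 = true)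
        · exact Golay.mem_codeList.1 (List.mem_filter.1 he1).1
        · exact Golay.mem_codeList.1 (List.mem_filter.1 he2).1
      have hcomp := Golay.permOf_comp (valid_of hT) hv
      have hmem : Golay.permOf (Golay.comp (T3 x) (wp e1 e2 w).2) ∈ M24 := by rw [hcomp]; exact mul_mem hTm hp
      have hvc := Golay.valid_comp (valid_of hT) hv
      have hin' : Golay.inM24 (Golay.comp (T3 x) (wp e1 e2 w).2) = true := by
        rw [Golay.inM24, hvc, Bool.true_and, List.all_eq_true]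
        intro b hb
        have h := Golay.mem_M24_iff.1 hmem b hb
        rw [Golay.permOf_smul_pts hvc] at h
        obtain ⟨a, ha, ea⟩ := Golay.mem_supports.1 h
        rw [Golay.pts_injOn (Co1Centre.imgMask_lt hvc b) (Golay.codeList_lt ha) ea]
        exact Golay.mem_codeList.1 ha
      simp only [wp]
      refine ⟨hin', isCode_nm (Golay.isCode_xor hec (img_code hT ha)), hmem, hvc, ?_⟩
      refine pm_step δ (hd hTm) e hcomp ?_
      rw [Golay.permOf_smul_pts (valid_of hT), Golay.pts_symmDiff]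
      rcases pts_nm ([0, e1, e2].getD x 0 ^^^ Golay.imgMask (Golay.get (T3 x)) (wp e1 e2 w).1) with hh | hh <;> rw [hh]
      · exact Or.inl rfl
      · exact Or.inr (compl_compl _).symm
  have hpass : ∀ w : List ℕ, (∀ x ∈ w, x < 3) → (wp 0 0 w).2 = Golay.idP → nm (wp e1 e2 w).1 = 0 := by
    intro w hw hid
    obtain ⟨-, ha, hp, -, e⟩ := key w hw
    rw [← wp_snd e1 e2 w] at hid
    have h1 : pm hp = 1 := by rw [pm, md_eq_one]; exact ⟨by rw [hid, Golay.permOf_idP], Or.inl rfl⟩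
    rw [h1, map_one, eq_comm, md_eq_one] at e
    have h0 : Golay.pts 0 = ∅ := by ext p; simp [Golay.mem_pts]
    have := nm_eq_of ha (b := 0) (by decide +kernel) (by rw [h0, Finset.compl_empty]; exact e.2)
    rw [this]; exact nm_zero
  obtain ⟨r1, r2⟩ := rel_ok
  simp only [List.all_eq_true, Bool.and_eq_true, decide_eq_true_eq, beq_iff_eq] at r1 r2
  have hp1 : passes relOne e1 0 = true := by
    simp only [passes, List.all_eq_true, beq_iff_eq]
    intro w hw
    rw [← wp_one_indep e1 e2 w (r1 w hw).1]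
    exact hpass w (fun x hx => Nat.lt_succ_of_lt ((r1 w hw).1 x hx)) (r1 w hw).2
  have hp2 : passes relTwo e1 e2 = true := by
    simp only [passes, List.all_eq_true, beq_iff_eq]
    exact fun w hw => hpass w (r2 w hw).1 (r2 w hw).2
  have s1 := List.all_eq_true.1 stage_one e1 he1
  simp only [hp1, Bool.not_true, Bool.false_or, List.any_eq_true, beq_iff_eq] at s1
  obtain ⟨_, hs, rfl⟩ := s1
  have s2 := List.all_eq_true.1 (List.all_eq_true.1 stage_two _ hs) e2 he2
  simp only [hp2, Bool.not_true, Bool.false_or, Bool.and_eq_true, beq_iff_eq] at s2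
  obtain ⟨hc, hd⟩ := hlet i hi
  rw [hd h]
  refine md_congr rfl ?_
  rw [s2.1, s2.2]
  have h0 : ([0, 0, 0] : List ℕ).getD i 0 = 0 := by interval_cases i <;> rfl
  rw [h0]
  ext p; simp [Golay.mem_pts]

end

theorem fix_N1 {δ : MulAut Spor.Co1} (hfix : ∀ e ∈ E1, δ e = e) (h0 : δ (pm T0_mem) = pm T0_mem)
    (hP : ∀ (σ : Equiv.Perm GolayPt) (hσ : σ ∈ M24), ∃ (d : Finset GolayPt) (hd : d ∈ SC), δ (pm hσ) = md hσ hd)
    {x : Spor.Co1} (hx : x ∈ N1) : δ x = x := by
  obtain ⟨σ, hσ, c, hc, rfl⟩ := exists_md hx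
  rw [md_split hσ hc, map_mul, hfix _ (dg_mem hc)]
  congr 1
  have hcl : σ ∈ Subgroup.closure Golay.gens := Golay.closure_gens ▸ hσ
  suffices ∀ τ ∈ Subgroup.closure Golay.gens, ∀ hτ : τ ∈ M24, δ (pm hτ) = pm hτ from this σ hcl hσ
  intro τ hτ
  induction hτ using Subgroup.closure_induction with
  | mem y hy =>
    intro hy'
    rw [Golay.gens_eq] at hy
    rcases hy with rfl | rfl | rfl
    · exact fix_gens hfix h0 hP (i := 0) (by norm_num) hy'
    · exact fix_gens hfix h0 hP (i := 1) (by norm_num) hy'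
    · exact fix_gens hfix h0 hP (i := 2) (by norm_num) hy'
  | one => intro h; rw [pm, md_one, map_one]
  | mul a b ha hb pa pb =>
    intro h
    have ha' := Golay.closure_gens_le ha
    have hb' := Golay.closure_gens_le hb
    rw [← pm_mul ha' hb', map_mul, pa ha', pb hb']
  | inv a ha pa =>
    intro h
    have ha' := Golay.closure_gens_le ha
    have he : pm h = (pm ha')⁻¹ := by
      refine eq_inv_of_mul_eq_one_left ?_
      rw [pm_mul, pm, md_eq_one]
      exact ⟨inv_mul_cancel a, Or.inl rfl⟩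
    rw [he, map_inv, pa ha']

end Cfsg.Agent.Fus.Co1Out
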