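import Cfsg.Agent.Lib.Fus.Co1Out.Fix

/-!
An automorphism trivial on the normaliser of the sign changes fixes the extra map, so every automorphism is inner.
-/

set_option autoImplicit false
set_option maxRecDepth 100000

open Cfsg
open scoped Pointwise

namespace Cfsg.Agent.Fus.Co1Out

open Cfsg.Agent.Spor Cfsg.Agent.Spor.Leech
open Co1Centre (mk)

local notation "SC" => supports (golayCode : Set (GolayPt → ZMod 2))

/-- The vector of an axis, for computation. -/
def axV (i : ℕ) : Vec := fun q => if Golay.idx q = i then 8 else 0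

/-- The check of one relation between the extra map and two signed permutations. -/
def relOkAt (P c P' c' : ℕ) (i : Fin 24) : Bool :=
  (List.range 24).all fun j =>
    let y := (if c.testBit (Golay.get P i.1) then fun q => -axV (Golay.get P i.1) q else axV (Golay.get P i.1))
    xiFun y (Golay.pt (Golay.get P' j)) ==
      (if c'.testBit (Golay.get P' j) then -(xiFun (axV i.1) (Golay.pt j)) else xiFun (axV i.1) (Golay.pt j))

theorem sep_rel : ∀ r ∈ sepL, Golay.isCode r.1 = true ∧ Golay.pop r.1 = 8 ∧ Golay.inM24 r.2.1 = true ∧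
    Golay.isCode r.2.2 = true ∧ ∀ i, relOkAt Golay.idP r.1 r.2.1 r.2.2 i = true := by
  decide +kernel

theorem perm_rel : ∀ r ∈ permL, Golay.inM24 r.1 = true ∧ Golay.inM24 r.2.1 = true ∧
    Golay.isCode r.2.2 = true ∧ ∀ i, relOkAt r.1 0 r.2.1 r.2.2 i = true := by
  decide +kernel

theorem separated : ∀ i j : Fin 24, i = j ∨
    sepL.any (fun r => r.1.testBit i.1 != r.1.testBit j.1) = true := by
  decide +kernel

theorem perm_sign : ∀ m ∈ Golay.codeList, (∀ r ∈ permL, fixM r.1 m = true) → nm m = 0 := by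
  decide +kernel

theorem axV_eq (p : GolayPt) : (axis p : Vec) = axV (Golay.idx p) := by
  funext q
  rw [axis_val, Pi.single_apply, axV]
  exact if_congr ⟨fun h => by rw [h], fun h => Golay.idx_injective h⟩ rfl rfl

theorem xi_rel {P c P' c' : ℕ} (hP : Golay.inM24 P = true) (hc : Golay.isCode c = true)
    (hP' : Golay.inM24 P' = true) (hc' : Golay.isCode c' = true) (h : ∀ i, relOkAt P c P' c' i = true) :
    xi * mono (Golay.permOf_mem_M24 hP) (code_mem hc) = mono (Golay.permOf_mem_M24 hP') (code_mem hc') * xi := by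
  refine ext_axis fun p => Subtype.ext (funext fun k => ?_)
  have hv := valid_of hP
  have hv' := valid_of hP'
  obtain ⟨j, rfl⟩ : ∃ j, Golay.permOf P' j = k := ⟨(Golay.permOf P').symm k, Equiv.apply_symm_apply _ k⟩
  have h1 := List.all_eq_true.1 (h ⟨Golay.idx p, Golay.idx_lt p⟩) (Golay.idx j) (List.mem_range.2 (Golay.idx_lt j))
  simp only [beq_iff_eq] at h1
  rw [← Golay.idx_permOf hv', Golay.pt_idx, Golay.pt_idx] at h1
  rw [mul_smul, mul_smul, xi_apply, mono_axis, mono_apply, signedPerm, Equiv.symm_apply_apply, xi_apply]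
  simp only [axV_eq, Golay.mem_pts, ← Golay.idx_permOf hv] at h1 ⊢
  convert h1 using 2
  split_ifs <;> funext q <;> simp [axV_eq, Golay.idx_permOf hv]

theorem mk_xi_rel {g : Spor.Co1} {δ : MulAut Spor.Co1} (hδ : ∀ x ∈ N1, δ x = x) (hg : δ (mk xi) = mk xi * g)
    {n n' : Co0} (hn : n ∈ crossStab) (hn' : n' ∈ crossStab) (h : xi * n = n' * xi) :
    g * mk n = mk n * g := by
  have h1 : mk xi * mk n = mk n' * mk xi := by rw [← map_mul, ← map_mul, h]
  have h2 := congrArg δ h1
  rw [map_mul, map_mul, hg, hδ _ ⟨n, hn, rfl⟩, hδ _ ⟨n', hn', rfl⟩, ← mul_assoc (mk n') (mk xi), ← h1, mul_assoc,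
    mul_assoc] at h2
  exact mul_left_cancel h2

theorem eq_one_of_comm {g : Spor.Co1}
    (hs : ∀ r ∈ sepL, ∀ h : Golay.pts r.1 ∈ SC, g * dg h = dg h * g)
    (hp : ∀ r ∈ permL, ∀ h : Golay.permOf r.1 ∈ M24, g * pm h = pm h * g) : g = 1 := by
  obtain ⟨g, rfl⟩ := mk_surjective g
  have hcomm : ∀ r ∈ sepL, ∀ h : Golay.pts r.1 ∈ SC,
      g * mono (one_mem M24) h = mono (one_mem M24) h * g := by
    intro r hr h
    have e := hs r hr h
    rw [dg, md, ← map_mul, ← map_mul, Co1Centre.mk_eq] at e
    refine e.resolve_right fun e => ?_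
    obtain ⟨σ, hσ, eo⟩ := Golay.exists_smul_octA (o := Golay.pts r.1)
      ⟨h, by rw [Golay.card_pts]; exact (sep_rel r hr).2.1⟩
    set a : Co0 := mono hσ empty_code with ha
    have hconj : a * Co1Centre.eO = mono (one_mem M24) h * a := by
      rw [ha, Co1Centre.eO, Co1Centre.mono_mul, Co1Centre.mono_mul]
      refine Co1Centre.mono_congr _ _ _ _ (by rw [mul_one, one_mul]) ?_
      rw [Finset.smul_finset_empty, ← Finset.bot_eq_empty, bot_symmDiff, symmDiff_bot]
      exact eo
    refine Co1Centre.not_anti (g := a⁻¹ * g * a) ?_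
    have hn : negCo * a = a * negCo :=
      (Subgroup.mem_center_iff.1 (mem_center_iff.2 (Or.inr rfl)) a).symm
    calc a⁻¹ * g * a * Co1Centre.eO = a⁻¹ * (g * mono (one_mem M24) h) * a := by
          rw [mul_assoc (a⁻¹ * g) a, hconj]; group
      _ = a⁻¹ * negCo * (mono (one_mem M24) h * g * a) := by rw [e]; group
      _ = a⁻¹ * negCo * a * (Co1Centre.eO * (a⁻¹ * g * a)) := by
          rw [show mono (one_mem M24) h = a * Co1Centre.eO * a⁻¹ by rw [hconj, mul_inv_cancel_right]]; group
      _ = _ := by rw [mul_assoc a⁻¹ negCo a, hn]; group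
  have hsupp : ∀ p q, p ≠ q → ((g • axis p : leechLattice) : Vec) q = 0 := by
    intro p q hpq
    rcases separated ⟨Golay.idx p, Golay.idx_lt p⟩ ⟨Golay.idx q, Golay.idx_lt q⟩ with h | h
    · exact absurd (Golay.idx_injective (Fin.ext_iff.1 h)) hpq
    obtain ⟨r, hr, hb⟩ := List.any_eq_true.1 h
    have hc : Golay.pts r.1 ∈ SC := code_mem (sep_rel r hr).1
    have e := congrArg (fun x : Co0 => ((x • axis p : leechLattice) : Vec) q) (hcomm r hr hc)
    simp only [mul_smul, mono_axis, mono_apply, signedPerm, Equiv.Perm.one_def, Equiv.refl_symm, Equiv.refl_apply,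
      Golay.mem_pts] at e
    cases h1 : r.1.testBit (Golay.idx p) <;> cases h2 : r.1.testBit (Golay.idx q) <;>
      simp [h1, h2, co_neg] at hb e <;> omega
  have hstab : g ∈ crossStab := by
    refine mem_crossStab.2 fun v hv => ?_
    show g • v ∈ stdL
    have key : ∀ i, g • axis i ∈ stdL := fun i => by
      have hn := co_norm g (axis i)
      rw [axis_norm, sqNorm, Finset.sum_eq_single i (fun k _ hk => by rw [hsupp i k (Ne.symm hk)]; rfl) (by simp)] at hn
      have he : ((g • axis i : leechLattice) : Vec) = Pi.single i (((g • axis i : leechLattice) : Vec) i) := by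
        funext k
        by_cases hk : k = i
        · subst hk; simp
        · rw [hsupp i k (Ne.symm hk), Pi.single_eq_of_ne hk]
      refine ⟨i, _, ?_, he⟩
      have : (((g • axis i : leechLattice) : Vec) i - 8) * (((g • axis i : leechLattice) : Vec) i + 8) = 0 := by
        ring_nf; ring_nf at hn; omega
      rcases mul_eq_zero.1 this with h | h
      · exact Or.inl (by omega)
      · exact Or.inr (by omega)
    obtain ⟨i, rfl | rfl⟩ := mem_stdL.1 (show v ∈ stdL from hv)
    · exact key i
    · rw [co_neg]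
      obtain ⟨j, hj⟩ := mem_stdL.1 (key i)
      exact mem_stdL.2 ⟨j, hj.symm.imp (fun h => by rw [h, neg_neg]) fun h => by rw [h]⟩
  obtain ⟨σ, hσ, c, hc, rfl⟩ := exists_mono hstab
  obtain rfl : σ = 1 := Equiv.ext fun p => by
    by_contra hne
    rw [Equiv.Perm.one_apply] at hne
    have h := hsupp p (σ p) (Ne.symm hne)
    rw [mono_axis] at h
    split_ifs at h <;> simp [axis_val] at h
  obtain ⟨m, hm, rfl⟩ := Golay.mem_supports.1 hc
  have hmc := Golay.mem_codeList.1 hm
  have hfix : ∀ r ∈ permL, fixM r.1 m = true := by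
    intro r hr
    obtain ⟨hP, -⟩ := perm_rel r hr
    have e := hp r hr (Golay.permOf_mem_M24 hP)
    rw [pm, show mk (mono hσ hc) = dg hc from rfl, conj_dg (Golay.permOf_mem_M24 hP) empty_code hc] at e
    have h := (md_eq.1 (mul_right_cancel e).symm).2
    rw [Golay.permOf_smul_pts (valid_of hP)] at h
    rw [fixM, beq_iff_eq]
    exact nm_eq_of (img_code hP hmc) hmc h
  refine md_eq_one.2 ⟨rfl, ?_⟩
  rcases pts_nm_eq (a := m) (b := 0) (perm_sign m hm hfix) with h | h
  · left; rw [h]; ext p; simp [Golay.mem_pts]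
  · right; rw [h, show Golay.pts 0 = ∅ from by ext p; simp [Golay.mem_pts], Finset.compl_empty]

theorem fix_all {δ : MulAut Spor.Co1} (hδ : ∀ x ∈ N1, δ x = x) (x : Spor.Co1) : δ x = x := by
  have hg : δ (mk xi) = mk xi * ((mk xi)⁻¹ * δ (mk xi)) := by rw [mul_inv_cancel_left]
  have h1 : (mk xi)⁻¹ * δ (mk xi) = 1 := by
    refine eq_one_of_comm (fun r hr h => ?_) fun r hr h => ?_
    · obtain ⟨hc, -, hP', hc', hrel⟩ := sep_rel r hr
      have hid : Golay.inM24 Golay.idP = true := by decide +kernel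
      have e := xi_rel hid hc hP' hc' hrel
      rw [Co1Centre.mono_congr _ (one_mem M24) _ h Golay.permOf_idP rfl] at e
      exact mk_xi_rel hδ hg (mono_mem _ _) (mono_mem _ _) e
    · obtain ⟨hP, hP', hc', hrel⟩ := perm_rel r hr
      have e := xi_rel hP (by decide +kernel : Golay.isCode 0 = true) hP' hc' hrel
      rw [Co1Centre.mono_congr _ h _ empty_code rfl (by ext p; simp [Golay.mem_pts])] at e
      exact mk_xi_rel hδ hg (mono_mem _ _) (mono_mem _ _) e
  have hxi : δ (mk xi) = mk xi := by rw [hg, h1, mul_one]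
  let M : Subgroup Co0 := (MonoidHom.eqLocus δ.toMonoidHom (MonoidHom.id _)).comap mk
  have hle : crossStab ≤ M := fun g hg => hδ _ ⟨g, hg, rfl⟩
  rcases CrossMaximal.maximal M hle with h | h
  · exfalso
    have hx : xi ∈ crossStab := h ▸ (show δ (mk xi) = mk xi from hxi)
    obtain ⟨σ, hσ, c, hc, e⟩ := exists_mono hx
    obtain ⟨hbad, i, k, hik, hb⟩ := bad_ok
    have hk : ∀ p, ∃ q, xi • axis p = axis q ∨ xi • axis p = -axis q := fun p => by
      rw [e, mono_axis]
      exact ⟨σ p, by split_ifs <;> simp⟩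
    obtain ⟨q, hq⟩ := hk (Golay.pt 0)
    have hcount : ((Finset.univ : Finset GolayPt).filter fun p => xiFun (axV 0) p ≠ 0).card = 4 := by decide +kernel
    have hone : ((Finset.univ : Finset GolayPt).filter fun p => ((xi • axis (Golay.pt 0) : leechLattice) : Vec) p ≠ 0).card ≤ 1 := by
      refine Finset.card_le_one.2 fun a ha b hb => ?_
      simp only [Finset.mem_filter, Finset.mem_univ, true_and] at ha hb
      have key : ∀ a, ((xi • axis (Golay.pt 0) : leechLattice) : Vec) a ≠ 0 → a = q := fun a ha => by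
        by_contra hne
        rcases hq with hq | hq <;> rw [hq] at ha <;> simp [axis_val, Pi.single_eq_of_ne hne] at ha
      rw [key a ha, key b hb]
    rw [xi_apply, axV_eq, Golay.idx_pt (by norm_num), hcount] at hone
    omega
  · obtain ⟨g, rfl⟩ := mk_surjective x
    exact (h ▸ Subgroup.mem_top g : g ∈ M)

theorem exists_inner (α : MulAut Spor.Co1) : ∃ g, ∀ x, α x = g * x * g⁻¹ := by
  obtain ⟨g1, h1⟩ := exists_fix_E α
  obtain ⟨g2, -, h2, h2p⟩ := exists_fix_perm h1
  obtain ⟨g3, -, h3, h30, h3p⟩ := exists_gauge (fun e he => fix_E h2 h2p he) h2p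
  refine ⟨(g3 * g2 * g1)⁻¹, fun x => ?_⟩
  have h := fix_all (fun y hy => fix_N1 h3 h30 h3p hy) x
  simp only [conjBy_apply] at h
  nth_rewrite 2 [← h]
  group

theorem card_out : Nat.card (Cfsg.Out Spor.Co1) = 1 := by
  have htop : Cfsg.Inn Spor.Co1 = ⊤ := by
    refine eq_top_iff.mpr fun α _ => ?_
    obtain ⟨g, e⟩ := exists_inner α
    exact ⟨g, MulEquiv.ext fun x => by simp [e x]⟩
  exact Nat.card_eq_one_iff_unique.mpr ⟨QuotientGroup.subsingleton_iff.mpr htop, inferInstance⟩

end Cfsg.Agent.Fus.Co1Out
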