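import Cfsg.Agent.Lib.Fus.Co1Out.Unique
import Cfsg.Agent.Lib.Spor.Leech.CrossMaximal

/-!
Every automorphism can be composed with an inner one so as to stabilise the sign changes and their normaliser.
-/

set_option autoImplicit false
set_option maxRecDepth 100000

open Cfsg
open scoped Pointwise

namespace Cfsg.Agent.Fus.Co1Out

open Cfsg.Agent.Spor Cfsg.Agent.Spor.Leech
open Co1Centre (mk)

local notation "SC" => supports (golayCode : Set (GolayPt → ZMod 2))

theorem card_E1 : Nat.card E1 = 2048 := by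
  have h := card_preimage E1
  have e : Nat.card (E1.comap mk) = 4096 := by
    rw [← card_supports]
    have hm : ∀ c : SC, mono (one_mem M24) c.2 ∈ E1.comap mk := fun c => dg_mem c.2
    refine (Nat.card_congr (Equiv.ofBijective (fun c : SC => (⟨_, hm c⟩ : E1.comap mk)) ⟨fun a b h => ?_, fun g => ?_⟩)).symm
    · exact Subtype.ext (mono_inj (one_mem M24) (one_mem M24) a.2 b.2 (congrArg Subtype.val h)).2
    · obtain ⟨c, hc, e⟩ := g.2
      rcases Co1Centre.mk_eq.1 e with h | h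
      · exact ⟨⟨c, hc⟩, Subtype.ext h.symm⟩
      · exact ⟨⟨cᶜ, compl_mem hc⟩, Subtype.ext (h.trans (negCo_mono _ hc)).symm⟩
  omega

theorem comap_N1 : N1.comap mk = crossStab :=
  le_antisymm (comap_le le_rfl) fun g hg => ⟨g, hg, rfl⟩

theorem index_N1 : N1.index = 8292375 := by
  rw [← N1.index_comap_of_surjective mk_surjective, comap_N1]
  have h := crossStab.card_mul_index
  rw [card_crossStab, card_Co0] at h
  omega

instance finite_Co1 : Finite Spor.Co1 := Quotient.finite _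

theorem card_Co1_val : Nat.card Spor.Co1 = 4157776806543360000 := by
  have := card_Co1
  rw [card_Co0] at this
  omega

/-- A Sylow subgroup inside the image of the cross stabiliser containing the sign changes. -/
theorem exists_sylow : ∃ T : Sylow 2 Spor.Co1, (T : Subgroup Spor.Co1) ≤ N1 ∧ E1 ≤ T := by
  haveI : Fact (Nat.Prime 2) := ⟨Nat.prime_two⟩
  obtain ⟨S⟩ := (inferInstance : Nonempty (Sylow 2 N1))
  have hE : IsPGroup 2 (E1.subgroupOf N1) :=
    IsPGroup.of_card (n := 11) (by rw [Nat.card_congr (Subgroup.subgroupOfEquivOfLe E1_le).toEquiv, card_E1]; norm_num)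
  haveI hn : (E1.subgroupOf N1).Normal := ⟨fun e he g => conj_E1 g.2 he⟩
  have hsup : ((S : Subgroup N1) ⊔ E1.subgroupOf N1) = S :=
    S.is_maximal' (S.isPGroup'.to_sup_of_normal_right hE) le_sup_left
  have hidx : ¬ 2 ∣ ((S : Subgroup N1).map N1.subtype).index := by
    rw [Subgroup.index_map_subtype, Nat.prime_two.dvd_mul, index_N1]
    rintro (h | h)
    · exact S.not_dvd_index h
    · norm_num at h
  refine ⟨(S.isPGroup'.map N1.subtype).toSylow hidx, ?_, ?_⟩
  · rw [IsPGroup.toSylow_coe]; exact Subgroup.map_subtype_le _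
  · intro e he
    rw [IsPGroup.toSylow_coe]
    exact ⟨⟨e, E1_le he⟩, hsup ▸ Subgroup.mem_sup_right he, rfl⟩

/-- The composite of an automorphism and a conjugation. -/
def conjBy (g : Spor.Co1) (α : MulAut Spor.Co1) : MulAut Spor.Co1 := MulAut.conj g * α

theorem conjBy_apply (g : Spor.Co1) (α : MulAut Spor.Co1) (x : Spor.Co1) : conjBy g α x = g * α x * g⁻¹ := rfl

theorem two_pow_split {a b n : ℕ} (h : a * b = 2 ^ n) (hn : 22 ≤ n) (ha : a ≤ 4096) : 1024 ∣ b := by
  obtain ⟨i, -, rfl⟩ := (Nat.dvd_prime_pow Nat.prime_two).1 (Dvd.intro b h)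
  obtain ⟨j, -, rfl⟩ := (Nat.dvd_prime_pow Nat.prime_two).1 (Dvd.intro_left (2 ^ i) h)
  rw [← pow_add] at h
  have h1 := Nat.pow_right_injective le_rfl h
  have h2 : i ≤ 12 := (Nat.pow_le_pow_iff_right (by norm_num : 1 < 2)).1 (by simpa using ha)
  exact (show 1024 = 2 ^ 10 by norm_num) ▸ pow_dvd_pow 2 (by omega)

theorem exists_fix_E (α : MulAut Spor.Co1) : ∃ g, ∀ x ∈ E1, conjBy g α x ∈ E1 := by
  classical
  haveI : Fact (Nat.Prime 2) := ⟨Nat.prime_two⟩
  obtain ⟨T, hTN, hET⟩ := exists_sylow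
  have hTc : ¬ 2 ∣ ((T : Subgroup Spor.Co1).map α.toMonoidHom).index := by
    rw [show ((T : Subgroup Spor.Co1).map α.toMonoidHom).index = (T : Subgroup Spor.Co1).index from
      Subgroup.index_map_equiv _ _]
    exact T.not_dvd_index
  obtain ⟨g, hg⟩ := MulAction.exists_smul_eq Spor.Co1 ((T.isPGroup'.map α.toMonoidHom).toSylow hTc) T
  refine ⟨g, ?_⟩
  set β := conjBy g α with hβ
  have hβT : ∀ x ∈ T, β x ∈ T := by
    intro x hx
    rw [← hg, hβ, conjBy_apply]
    show g * α x * g⁻¹ ∈ MulAut.conj g • ((T.isPGroup'.map α.toMonoidHom).toSylow hTc : Subgroup Spor.Co1)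
    refine Subgroup.smul_mem_pointwise_smul (α x) (MulAut.conj g) _ ?_
    rw [IsPGroup.toSylow_coe]
    exact ⟨x, hx, rfl⟩
  have hβT' : ∀ x ∈ T, ∃ y ∈ T, β y = x := by
    intro x hx
    obtain ⟨⟨y, hy⟩, e⟩ := (Finite.injective_iff_surjective (f := fun y : T => (⟨β y, hβT y y.2⟩ : T))).1
      (fun a b e => Subtype.ext (β.injective (congrArg Subtype.val e))) ⟨x, hx⟩
    exact ⟨y, hy, congrArg Subtype.val e⟩
  set A := E1.map β.toMonoidHom with hA
  have hAT : A ≤ T := by rintro _ ⟨x, hx, rfl⟩; exact hβT x (hET hx)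
  have hAN : A ≤ N1 := hAT.trans hTN
  have hcard : Nat.card A = 2048 := by
    rw [hA, Nat.card_congr (Subgroup.equivMapOfInjective E1 β.toMonoidHom β.injective).symm.toEquiv, card_E1]
  have hnormT : ∀ x ∈ T, ∀ a ∈ A, x * a * x⁻¹ ∈ A := by
    rintro x hx _ ⟨e, he, rfl⟩
    obtain ⟨y, hy, rfl⟩ := hβT' x hx
    exact ⟨y * e * y⁻¹, conj_E1 (hTN hy) he, by simp⟩
  have hinv : ∀ a ∈ A, a * a = 1 := by
    rintro _ ⟨e, ⟨c, hc, rfl⟩, rfl⟩
    rw [← map_mul, dg_sq, map_one]
  have hab : ∀ a ∈ A, ∀ b ∈ A, a * b = b * a := by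
    rintro _ ⟨e, ⟨c, hc, rfl⟩, rfl⟩ _ ⟨e', ⟨d, hd, rfl⟩, rfl⟩
    rw [← map_mul, ← map_mul, dg_mul, dg_mul]
    exact congrArg β.toMonoidHom (md_eq.2 ⟨rfl, Or.inl (symmDiff_comm _ _)⟩)
  suffices hAE : A = E1 by intro x hx; exact hAE ▸ ⟨x, hx, rfl⟩
  by_contra hne
  set f := permHom.comp (pre (T : Subgroup Spor.Co1)).subtype with hf
  set P := (pre A).map permHom with hP
  have hPR : P ≤ f.range := by rintro _ ⟨x, hx, rfl⟩; exact ⟨⟨x, hAT hx⟩, rfl⟩
  have hPn : (P.subgroupOf f.range).Normal := by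
    refine ⟨fun p hp q => ?_⟩
    obtain ⟨⟨x, hx⟩, ex⟩ := q.2
    obtain ⟨y, hy, ey⟩ := hp
    refine ⟨x * y * x⁻¹, ?_, ?_⟩
    · rw [SetLike.mem_coe, mem_pre] at hy ⊢
      simpa using hnormT _ hx _ hy
    · show permHom (x * y * x⁻¹) = (q : Equiv.Perm GolayPt) * p * (q : Equiv.Perm GolayPt)⁻¹
      rw [map_mul, map_mul, map_inv, ey, ← ex]; rfl
  have hPne : P.subgroupOf f.range ≠ ⊥ := by
    intro hb
    refine hne (Subgroup.eq_of_le_of_card_ge (fun a ha => ?_) (by rw [hcard, card_E1]))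
    obtain ⟨σ, hσ, c, hc, rfl⟩ := exists_md (hAN ha)
    have hm : σ ∈ P := ⟨⟨mono hσ hc, mono_mem hσ hc⟩, ha, permHom_mono hσ hc⟩
    have h1 : (⟨σ, hPR hm⟩ : f.range) ∈ P.subgroupOf f.range := hm
    rw [hb, Subgroup.mem_bot] at h1
    obtain rfl : σ = 1 := congrArg Subtype.val h1
    exact ⟨c, hc, rfl⟩
  obtain ⟨n, hn⟩ := T.isPGroup'.exists_card_eq
  have hpre : Nat.card (pre (T : Subgroup Spor.Co1)) = 2 ^ (n + 1) := by
    rw [card_pre hTN, hn, pow_succ']
  have hrp : IsPGroup 2 f.range := (IsPGroup.of_card hpre).of_surjective f.rangeRestrict f.rangeRestrict_surjective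
  haveI := hrp.isNilpotent
  obtain ⟨t, ht, ht1⟩ := (Subgroup.bot_or_exists_ne_one _).resolve_left (Grp.inf_center_ne_bot _ hPne)
  obtain ⟨htP, htc⟩ := Subgroup.mem_inf.1 ht
  obtain ⟨x, hx, ext⟩ := htP
  obtain ⟨σ, hσ, c, hc, ec⟩ := exists_mono x.2
  have htσ : (t : Equiv.Perm GolayPt) = σ := ext.symm.trans (perm_eq ec)
  have hxA : md hσ hc ∈ A := by rw [md, ← ec]; exact hx
  have hσ2 : σ * σ = 1 := by
    have h := hinv _ hxA
    rw [md_mul, md_eq_one] at h
    exact h.1
  have hord : orderOf σ = 2 :=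
    orderOf_eq_prime (by rw [pow_two, hσ2]) fun e => ht1 (Subtype.ext (htσ.trans e))
  obtain ⟨k, hk, r, hr, e⟩ := Golay.Census.exists_conj_two hσ hord
  have h1024 : 1024 ∣ Nat.card f.range := by
    have h := f.ker.card_mul_index
    rw [Subgroup.index_ker, hpre] at h
    refine two_pow_split h ?_ ?_
    · have h2 := (T : Subgroup Spor.Co1).card_mul_index
      rw [hn, card_Co1_val] at h2
      have h21 : 2 ^ 21 ∣ 2 ^ n * (T : Subgroup Spor.Co1).index := by rw [h2]; norm_num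
      have h3 : (2 ^ 21).Coprime (T : Subgroup Spor.Co1).index :=
        Nat.Coprime.pow_left _ ((Nat.prime_two.coprime_iff_not_dvd).2 T.not_dvd_index)
      have := (Nat.pow_dvd_pow_iff_le_right (by norm_num : 1 < 2)).1 (h3.dvd_of_dvd_mul_right h21)
      omega
    · rw [← card_supports]
      have hk : ∀ g : f.ker, ∃ c : SC, ((g : pre (T : Subgroup Spor.Co1)) : crossStab).1 = mono (one_mem M24) c.2 := by
        intro g
        obtain ⟨c, hc, e⟩ := ker_permHom (g := ((g : pre (T : Subgroup Spor.Co1)) : crossStab)) g.2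
        exact ⟨⟨c, hc⟩, e⟩
      choose s hs using hk
      refine Nat.card_le_card_of_injective s fun a b e => Subtype.ext (Subtype.ext (Subtype.ext ?_))
      rw [hs a, hs b, e]
  obtain ⟨hrep, -⟩ := Golay.Census.two_reps
  rw [hrep, List.mem_cons, List.mem_singleton] at hr
  rcases hr with rfl | rfl
  · -- eight fixed points
    refine no_second (A := A.map (MulAut.conj (pm hk)).toMonoidHom)
      (c0 := k • c) (hc0 := smul_supports hk hc) ?_ ?_ ?_ ?_ ?_ ?_
    · rintro _ ⟨a, ha, rfl⟩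
      exact N1.mul_mem (N1.mul_mem (md_mem _ _) (hAN ha)) (N1.inv_mem (md_mem _ _))
    · rintro _ ⟨a, ha, rfl⟩ _ ⟨b, hb, rfl⟩
      rw [← map_mul, ← map_mul, hab a ha b hb]
    · rintro _ ⟨a, ha, rfl⟩
      rw [← map_mul, hinv a ha, map_one]
    · rw [Nat.card_congr (Subgroup.equivMapOfInjective A _ (MulAut.conj (pm hk)).injective).symm.toEquiv, hcard]
    · rintro e he _ ⟨a, ha, rfl⟩
      have he' : (pm hk)⁻¹ * e * pm hk ∈ E1 := by
        simpa [pm] using conj_E1 (N1.inv_mem (md_mem hk empty_code)) he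
      exact ⟨_, hnormT _ (hET he') a ha, by simp [mul_assoc]⟩
    · refine ⟨_, hxA, ?_⟩
      show pm hk * md hσ hc * (pm hk)⁻¹ = _
      rw [mul_inv_eq_iff_eq_mul, pm, md_mul, md_mul, md_eq]
      have e' : Golay.permOf r0 * k = k * σ := by
        rw [show Golay.permOf r0 = k * σ * k⁻¹ from e.symm, inv_mul_cancel_right]
      exact ⟨e'.symm, Or.inl (by rw [Finset.smul_finset_empty, ← Finset.bot_eq_empty, bot_symmDiff, symmDiff_bot])⟩
  · -- no fixed points
    have hle : f.range.map (MulAut.conj k).toMonoidHom ≤ Golay.Census.centTf := by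
      rintro _ ⟨q, hq, rfl⟩
      have hq24 : q ∈ M24 := by obtain ⟨y, rfl⟩ := hq; exact perm_mem _
      refine Golay.Census.mem_centTf.2 ⟨M24.mul_mem (M24.mul_mem hk hq24) (M24.inv_mem hk), ?_⟩
      have hc2 : q * σ = σ * q := by
        rw [← htσ]; exact congrArg Subtype.val (Subgroup.mem_center_iff.1 htc ⟨q, hq⟩)
      show k * q * k⁻¹ * Golay.Census.tf = Golay.Census.tf * (k * q * k⁻¹)
      rw [Golay.Census.tf, ← e]
      calc k * q * k⁻¹ * (k * σ * k⁻¹) = k * (q * σ) * k⁻¹ := by group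
        _ = k * (σ * q) * k⁻¹ := by rw [hc2]
        _ = _ := by group
    have h := Subgroup.card_dvd_of_le hle
    rw [Nat.card_congr (Subgroup.equivMapOfInjective f.range _ (MulAut.conj k).injective).symm.toEquiv,
      Golay.Census.centTf_facts.1] at h
    exact absurd (h1024.trans h) (by norm_num)

theorem xi_sq : (xi : Co0) * xi = 1 := by
  refine Subtype.ext (Equiv.ext fun v => Subtype.ext ?_)
  show ((xi • (xi • v) : leechLattice) : Vec) = (v : Vec)
  rw [xi_apply, xi_apply, xiFun_xiFun (evenTet_of_mem v.2)]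

theorem bad_ok : Golay.isCode badC = true ∧ ∃ i : Fin 24, ∃ k : Fin 24, i ≠ k ∧
    xiFun (Leech.flip (Golay.pts badC) (xiFun (fun q => if Golay.idx q = i.1 then 8 else 0))) (Golay.pt k) ≠ 0 := by
  decide +kernel

theorem normalizer_E1 {g : Spor.Co1} (h : ∀ e ∈ E1, g * e * g⁻¹ ∈ E1) : g ∈ N1 := by
  let M : Subgroup Co0 :=
    (Subgroup.normalizer (E1 : Set Spor.Co1)).comap mk
  have hM : crossStab ≤ M := fun x hx => Subgroup.mem_normalizer_iff.2 fun y =>
    ⟨fun hy => conj_E1 ⟨x, hx, rfl⟩ hy, fun hy => by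
      simpa [mul_assoc] using conj_E1 (N1.inv_mem ⟨x, hx, rfl⟩) hy⟩
  have hne : M ≠ ⊤ := by
    intro ht
    obtain ⟨hbad, i, k, hik, hb⟩ := bad_ok
    have hx : xi ∈ M := ht ▸ Subgroup.mem_top _
    obtain ⟨c, hc, e⟩ := (Subgroup.mem_normalizer_iff.1 hx (dg (code_mem hbad))).1 (dg_mem _)
    rw [dg, dg, md, md, ← map_inv, ← map_mul, ← map_mul, inv_eq_of_mul_eq_one_right xi_sq, Co1Centre.mk_eq,
      negCo_mono] at e
    have key : ∀ d : Finset GolayPt, ∀ hd : d ∈ SC,
        xi * mono (one_mem M24) (code_mem hbad) * xi = mono (one_mem M24) hd → False := by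
      intro d hd e2
      have e3 := congrArg (fun x : Co0 => ((x • axis (Golay.pt i) : leechLattice) : Vec) (Golay.pt k)) e2
      have hax : (axis (Golay.pt i) : Vec) = fun q => if Golay.idx q = i.1 then 8 else 0 := by
        funext q
        rw [axis_val, Pi.single_apply]
        exact if_congr ⟨fun h => by rw [h, Golay.idx_pt i.2], fun h => by rw [← h, Golay.pt_idx]⟩ rfl rfl
      have hki : Golay.pt k ≠ Golay.pt i := fun h => hik (Fin.ext (by
        have := congrArg Golay.idx h; rw [Golay.idx_pt k.2, Golay.idx_pt i.2] at this; exact this.symm))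
      simp only [mul_smul, xi_apply, mono_apply, signedPerm_eq, Equiv.Perm.one_def, Equiv.refl_symm,
        Equiv.refl_apply] at e3
      rw [← hax] at hb
      refine hb (e3.trans ?_)
      simp [Leech.flip, axis_val, Pi.single_eq_of_ne hki]
    rcases e with e | e
    · exact key _ _ e
    · exact key _ _ e
  have hMeq : M = crossStab := by
    rcases CrossMaximal.maximal M hM with h | h
    · exact h
    · exact absurd h hne
  obtain ⟨g, rfl⟩ := mk_surjective g
  refine ⟨g, ?_, rfl⟩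
  rw [← hMeq]
  refine Subgroup.mem_normalizer_iff.2 fun y => ⟨fun hy => h y hy, fun hy => ?_⟩
  obtain ⟨⟨z, hz⟩, hze⟩ := (Finite.injective_iff_surjective (f := fun z : E1 => (⟨mk g * z * (mk g)⁻¹, h z z.2⟩ : E1))).1
    (fun a b e => Subtype.ext (by simpa using congrArg Subtype.val e)) ⟨_, hy⟩
  have : z = y := by simpa using congrArg Subtype.val hze
  exact this ▸ hz

end Cfsg.Agent.Fus.Co1Out
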