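import Cfsg.Agent.Lib.Fus.Co1Out.Basic
import Cfsg.Agent.Lib.Spor.Golay.CensusFixed
import Cfsg.Agent.Lib.Grp.Frattini

/-!
The sign changes are the only normal elementary abelian subgroup of that order in a Sylow 2-subgroup containing them.
-/

set_option autoImplicit false
set_option maxRecDepth 100000

open Cfsg
open scoped Pointwise

namespace Cfsg.Agent.Fus.Co1Out

open Cfsg.Agent.Spor Cfsg.Agent.Spor.Leech
open Co1Centre (mk)
open Golay.Census (cands mem_cands repTwo)

local notation "SC" => supports (golayCode : Set (GolayPt → ZMod 2))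

/-- The involution with eight fixed points. -/
def r0 : ℕ := repTwo.getD 0 0

/-- Compatibility with fixing three octads. -/
def testK (Q : ℕ) (cs : List ℕ) : Bool :=
  octK.all fun v => cs.all fun b => !Nat.blt b 24 || (v.testBit (Golay.get Q b) == v.testBit b)

/-- The members fixing three octads. -/
def listK : List ℕ := cands Golay.table testK Golay.idP [] Golay.chainA

/-- Fixing a mask up to complement. -/
def fixM (P m : ℕ) : Bool := nm (Golay.imgMask (Golay.get P) m) == nm m

theorem kern_one : (Golay.codeList.filter (fixM r0)).length = 256 ∧ listK.length = 16 ∧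
    (Golay.codeList.filter fun m => listK.all fun R => fixM R m).length ≤ 32 ∧ Golay.inM24 r0 = true ∧
    listK.all Golay.valid = true := by
  decide +kernel

theorem wit_ok : ∀ v ∈ octK, Golay.pop v = 8 ∧ Golay.isCode v = true ∧
    ∃ c ∈ witK, Golay.isCode c = true ∧ nm (c ^^^ Golay.imgMask (Golay.get r0) c) = nm v := by
  decide +kernel

theorem valid_r0 : Golay.valid r0 = true := by
  have h := kern_one.2.2.2.1
  rw [Golay.inM24, Bool.and_eq_true] at h
  exact h.1

theorem r0_mem : Golay.permOf r0 ∈ M24 := Golay.permOf_mem_M24 kern_one.2.2.2.1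

theorem pts_nm_eq {a b : ℕ} (h : nm a = nm b) : Golay.pts a = Golay.pts b ∨ Golay.pts a = (Golay.pts b)ᶜ := by
  rcases pts_nm a with ha | ha <;> rcases pts_nm b with hb | hb <;> rw [h, hb] at ha
  · exact Or.inl ha.symm
  · exact Or.inr ha.symm
  · exact Or.inr (by rw [ha, compl_compl])
  · exact Or.inl (compl_injective ha.symm)

theorem mem_listK {σ : Equiv.Perm GolayPt} (hσ : σ ∈ M24) (h : ∀ v ∈ octK, σ • Golay.pts v = Golay.pts v) :
    ∃ R ∈ listK, Golay.permOf R = σ := by
  obtain ⟨R, hR, -, e⟩ := mem_cands Golay.tableOk testK (g := σ) (fun Q cs hQ hag => by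
      simp only [testK, List.all_eq_true, Bool.or_eq_true]
      intro v hv b hb
      by_cases hb24 : b < 24
      · refine Or.inr ?_
        have h1 : σ (Golay.pt b) ∈ Golay.pts v ↔ Golay.pt b ∈ Golay.pts v := by
          conv_lhs => rw [← h v hv, ← Equiv.Perm.smul_def, Finset.smul_mem_smul_finset_iff]
        rw [← hag b hb, Golay.mem_pts, Golay.mem_pts, Golay.idx_permOf hQ, Golay.idx_pt hb24] at h1
        rw [beq_iff_eq]
        exact Bool.eq_iff_iff.2 h1
      · refine Or.inl ?_
        rw [Bool.not_eq_true']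
        cases hbl : Nat.blt b 24
        · rfl
        · exact absurd (Nat.le_of_ble_eq_true hbl) hb24) Golay.chainA [] Golay.idP Golay.valid_idP
    Golay.lowA Golay.upA Golay.idx_ok.1 (by
      rw [Golay.permOf_idP, inv_one, one_mul, Golay.Fix_nil]; exact hσ)
  exact ⟨R, hR, e⟩

theorem card_image_le_length (L : List ℕ) (q : ℕ → Bool) (T : Set (Finset GolayPt))
    (h : ∀ s ∈ T, ∃ m ∈ L, q m = true ∧ Golay.pts m = s) : T.ncard ≤ (L.filter q).length := by
  classical
  refine (Set.ncard_le_ncard (t := ↑((L.filter q).toFinset.image Golay.pts)) ?_ (Set.toFinite _)).trans ?_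
  · intro s hs
    obtain ⟨m, hm, hq, e⟩ := h s hs
    exact Finset.mem_coe.2 (Finset.mem_image.2 ⟨m, List.mem_toFinset.2 (List.mem_filter.2 ⟨hm, hq⟩), e⟩)
  · rw [Set.ncard_coe_finset]
    exact Finset.card_image_le.trans (List.toFinset_card_le _)

theorem card_Co1 : Nat.card Spor.Co1 * 2 = Nat.card Co0 := by
  rw [← Leech.card_center]
  exact (Subgroup.card_eq_card_quotient_mul_card_subgroup (Subgroup.center Co0)).symm

theorem mk_surjective : Function.Surjective mk := QuotientGroup.mk'_surjective _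

theorem card_preimage (A : Subgroup Spor.Co1) : Nat.card (A.comap mk) = 2 * Nat.card A := by
  have h1 := (A.comap mk).card_mul_index
  rw [A.index_comap_of_surjective mk_surjective, ← card_Co1, ← A.card_mul_index] at h1
  have h0 : A.index ≠ 0 := Subgroup.index_ne_zero_of_finite
  have h2 : Nat.card (A.comap mk) * A.index = 2 * Nat.card A * A.index := by rw [h1]; ring
  exact Nat.eq_of_mul_eq_mul_right (Nat.pos_of_ne_zero h0) h2

theorem comap_le {A : Subgroup Spor.Co1} (hA : A ≤ N1) : A.comap mk ≤ crossStab := by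
  intro g hg
  obtain ⟨g', hg', e⟩ := hA hg
  rcases Co1Centre.mk_eq.1 e with rfl | rfl
  · exact hg'
  · have hn : negCo ∈ crossStab := mono_mem _ _
    exact (Subgroup.mul_mem_cancel_left _ hn).1 hg'

/-- The preimage inside the cross stabiliser. -/
def pre (A : Subgroup Spor.Co1) : Subgroup crossStab := (A.comap mk).subgroupOf crossStab

theorem card_pre {A : Subgroup Spor.Co1} (hA : A ≤ N1) : Nat.card (pre A) = 2 * Nat.card A := by
  rw [pre, Nat.card_congr (Subgroup.subgroupOfEquivOfLe (comap_le hA)).toEquiv, card_preimage]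

theorem mem_pre {A : Subgroup Spor.Co1} {g : crossStab} : g ∈ pre A ↔ mk (g : Co0) ∈ A := Iff.rfl

theorem no_second {A : Subgroup Spor.Co1} (hA : A ≤ N1) (hab : ∀ a ∈ A, ∀ b ∈ A, a * b = b * a)
    (hinv : ∀ a ∈ A, a * a = 1) (hcard : Nat.card A = 2048) (hnorm : ∀ e ∈ E1, ∀ a ∈ A, e * a * e⁻¹ ∈ A)
    {c0 : Finset GolayPt} {hc0 : c0 ∈ SC} (ha0 : md r0_mem hc0 ∈ A) : False := by
  classical
  have hy : ∀ v ∈ octK, ∃ hv : Golay.pts v ∈ SC, dg hv ∈ A := by
    intro v hv
    obtain ⟨-, hvc, c, -, hc, e⟩ := wit_ok v hv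
    refine ⟨code_mem hvc, ?_⟩
    have h1 := hnorm _ (dg_mem (code_mem hc)) _ ha0
    have h2 := A.mul_mem h1 ha0
    rw [inv_eq_of_mul_eq_one_right (dg_sq (code_mem hc)), mul_assoc, mul_assoc, ← mul_assoc (dg (code_mem hc)) _ _] at h2
    have h3 : dg (code_mem hc) * md r0_mem hc0 * (dg (code_mem hc) * md r0_mem hc0) =
        dg (code_mem hc) * dg (smul_supports r0_mem (code_mem hc)) := by
      rw [← mul_assoc (dg (code_mem hc) * md r0_mem hc0), mul_assoc (dg (code_mem hc)) (md r0_mem hc0),
        conj_dg r0_mem hc0 (code_mem hc), ← mul_assoc (dg (code_mem hc)), mul_assoc _ (md r0_mem hc0) (md r0_mem hc0),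
        hinv _ ha0, mul_one]
    rw [h3, dg_mul] at h2
    convert h2 using 1
    refine md_eq.2 ⟨rfl, ?_⟩
    rw [Golay.permOf_smul_pts valid_r0, Golay.pts_symmDiff]
    exact pts_nm_eq e.symm
  have hfix : ∀ g ∈ pre A, ∀ v ∈ octK, permHom g • Golay.pts v = Golay.pts v := by
    intro g hg v hv
    obtain ⟨hvS, hvA⟩ := hy v hv
    obtain ⟨σ, hσ, d, hd, eg⟩ := exists_mono g.2
    rw [show permHom g = σ from perm_eq eg]
    have h := hab _ (show md hσ hd ∈ A by rw [md, ← eg]; exact hg) _ hvA
    rw [conj_dg hσ hd hvS] at h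
    have h' := mul_right_cancel h
    rcases (md_eq.1 h').2 with h2 | h2
    · exact h2
    · have h3 := congrArg Finset.card h2
      rw [Finset.card_smul_finset, Finset.card_compl, Golay.card_pts, (wit_ok v hv).1, Golay.card_golayPt] at h3
      omega
  set f := permHom.comp (pre A).subtype with hf
  have hrange : (f.range : Set (Equiv.Perm GolayPt)) ⊆ ↑(listK.toFinset.image Golay.permOf) := by
    rintro _ ⟨⟨g, hg⟩, rfl⟩
    obtain ⟨R, hR, e⟩ := mem_listK (σ := permHom g) (perm_mem g) (hfix g hg)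
    exact Finset.mem_coe.2 (Finset.mem_image.2 ⟨R, List.mem_toFinset.2 hR, e⟩)
  have hKcard : ((listK.toFinset.image Golay.permOf : Finset (Equiv.Perm GolayPt)) : Set (Equiv.Perm GolayPt)).ncard ≤ 16 := by
    rw [Set.ncard_coe_finset]
    exact Finset.card_image_le.trans ((List.toFinset_card_le _).trans kern_one.2.1.le)
  have hr : Nat.card f.range ≤ 16 := by
    rw [← SetLike.coe_sort_coe, Nat.card_coe_set_eq]
    exact (Set.ncard_le_ncard hrange (Set.toFinite _)).trans hKcard
  have hcomm : ∀ (σ : Equiv.Perm GolayPt) (hσ : σ ∈ M24) (d : Finset GolayPt) (hd : d ∈ SC), md hσ hd ∈ A →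
      ∀ (s : Finset GolayPt) (hs : s ∈ SC), dg hs ∈ A → ∀ m, Golay.pts m = s → Golay.isCode m = true →
        ∀ R, Golay.inM24 R = true → Golay.permOf R = σ → fixM R m = true := by
    intro σ hσ d hd ha s hs hsA m hm hmc R hR e
    have hv : Golay.valid R = true := by
      rw [Golay.inM24, Bool.and_eq_true] at hR; exact hR.1
    have h := hab _ ha _ hsA
    rw [conj_dg hσ hd hs] at h
    have h2 := (md_eq.1 (mul_right_cancel h)).2
    subst hm e
    rw [Golay.permOf_smul_pts hv] at h2
    rw [fixM, beq_iff_eq]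
    exact nm_eq_of (img_code hR hmc) hmc h2
  have hkset : ∀ g : f.ker, ∃ s : Finset GolayPt, ∃ hs : s ∈ SC, ((g : pre A) : crossStab).1 = mono (one_mem M24) hs ∧
      dg hs ∈ A := by
    intro g
    obtain ⟨c, hc, e⟩ := ker_permHom (g := ((g : pre A) : crossStab)) g.2
    refine ⟨c, hc, e, ?_⟩
    rw [dg, md, ← e]
    exact (g : pre A).2
  choose s hs hse hsA using hkset
  have hsinj : Function.Injective s := fun a b e => Subtype.ext (Subtype.ext (Subtype.ext
    ((hse a).trans ((Co1Centre.mono_congr _ _ _ _ rfl e).trans (hse b).symm))))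
  have hker : ∀ q : ℕ → Bool, (∀ m, Golay.isCode m = true → (∃ g, s g = Golay.pts m) → q m = true) →
      Nat.card f.ker ≤ (Golay.codeList.filter q).length := by
    intro q hq
    rw [← Set.ncard_univ, ← Set.ncard_image_of_injective _ hsinj]
    refine card_image_le_length _ q _ ?_
    rintro _ ⟨g, -, rfl⟩
    obtain ⟨m, hm, e⟩ := Golay.mem_supports.1 (hs g)
    exact ⟨m, hm, hq m (Golay.mem_codeList.1 hm) ⟨g, e⟩, e.symm⟩
  have hk256 : Nat.card f.ker ≤ 256 := by
    refine (hker (fixM r0) fun m hm => ?_).trans kern_one.1.le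
    rintro ⟨g, hg⟩
    exact hcomm _ r0_mem _ hc0 ha0 _ (hs g) (hsA g) m hg.symm hm r0 kern_one.2.2.2.1 rfl
  have htot := f.ker.card_mul_index
  rw [Subgroup.index_ker, card_pre hA, hcard] at htot
  have h16 : Nat.card f.range = 16 := by
    rcases lt_or_eq_of_le hr with h | h
    · have := Nat.mul_le_mul hk256 (Nat.le_of_lt_succ h)
      omega
    · exact h
  have heq : (f.range : Set (Equiv.Perm GolayPt)) = ↑(listK.toFinset.image Golay.permOf) :=
    Set.eq_of_subset_of_ncard_le hrange (by
      rw [← Nat.card_coe_set_eq (f.range : Set (Equiv.Perm GolayPt)), SetLike.coe_sort_coe, h16]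
      exact hKcard) (Set.toFinite _)
  have hk32 : Nat.card f.ker ≤ 32 := by
    refine (hker (fun m => listK.all fun R => fixM R m) fun m hm => ?_).trans kern_one.2.2.1
    rintro ⟨g, hg⟩
    refine List.all_eq_true.2 fun R hR => ?_
    have hmem : Golay.permOf R ∈ f.range := by
      rw [← SetLike.mem_coe, heq]
      exact Finset.mem_coe.2 (Finset.mem_image.2 ⟨R, List.mem_toFinset.2 hR, rfl⟩)
    obtain ⟨⟨x, hx⟩, e⟩ := hmem
    obtain ⟨σ, hσ, d, hd, ex⟩ := exists_mono x.2
    have e' : Golay.permOf R = σ := e.symm.trans (perm_eq ex)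
    have hv : Golay.valid R = true := List.all_eq_true.1 kern_one.2.2.2.2 R hR
    have hR24 : Golay.inM24 R = true := by
      rw [Golay.inM24, hv, Bool.true_and, List.all_eq_true]
      intro b hb
      have h := Golay.mem_M24_iff.1 (e' ▸ hσ : Golay.permOf R ∈ M24) b hb
      rw [Golay.permOf_smul_pts hv] at h
      obtain ⟨a, ha, ea⟩ := Golay.mem_supports.1 h
      rw [Golay.pts_injOn (Co1Centre.imgMask_lt hv b) (Golay.codeList_lt ha) ea]
      exact Golay.mem_codeList.1 ha
    exact hcomm _ hσ _ hd (by rw [md, ← ex]; exact hx) _ (hs g) (hsA g) m hg.symm hm R hR24 e'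
  rw [h16] at htot
  omega

end Cfsg.Agent.Fus.Co1Out
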